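import Cfsg.Prelude.Def_QuasithinSetup
import Cfsg.Agent.Components.CharP
import Cfsg.Agent.Components.PxQ
import Cfsg.Agent.Components.Supplement

/-!
Upward closure of the faithful members of `ℒ(G, T)`.
-/

set_option autoImplicit false
set_option linter.style.haveILetI false
set_option linter.unusedSectionVars false

namespace Cfsg.Lib.Components.UpwardClosed

open Subgroup Cfsg.Lib.Components
open scoped commutatorElement

universe u

variable {G : Type u} [Group G] [Finite G]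

theorem pc_le (Y : Subgroup G) : Cfsg.pCoreTwoOf Y ≤ Y := map_subtype_le _

theorem pc_pgroup [Fact (Nat.Prime 2)] (Y : Subgroup G) : IsPGroup 2 (Cfsg.pCoreTwoOf Y) :=
  (isPGroup_pCore 2).map _

theorem le_pc {A Y : Subgroup G} (hAY : A ≤ Y) (hA : IsPGroup 2 A)
    (hn : Y ≤ normalizer (A : Set G)) : A ≤ Cfsg.pCoreTwoOf Y := by
  haveI : (A.subgroupOf Y).Normal := normal_subgroupOf_of_le_normalizer hn
  rw [← map_subgroupOf_eq_of_le hAY]
  exact Subgroup.map_mono (le_pCore (hA.of_equiv (subgroupOfEquivOfLe hAY).symm))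

theorem self_le_norm_pc (Y : Subgroup G) : Y ≤ normalizer (Cfsg.pCoreTwoOf Y : Set G) := by
  haveI : ((Cfsg.pCoreTwoOf Y).subgroupOf Y).Normal := by
    rw [Cfsg.pCoreTwoOf, subgroupOf, comap_map_eq_self_of_injective Y.subtype_injective]
    infer_instance
  exact (normal_subgroupOf_iff_le_normalizer (pc_le Y)).1 inferInstance

theorem norm_le_norm_pc [Fact (Nat.Prime 2)] (Y : Subgroup G) :
    normalizer (Y : Set G) ≤ normalizer (Cfsg.pCoreTwoOf Y : Set G) := by
  intro g hg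
  rw [mem_normalizer_iff_map_conj_eq] at hg ⊢
  refine eq_of_le_of_card_ge ?_ (le_of_eq (card_map_of_injective
    (f := ((MulAut.conj g : G ≃* G) : G →* G)) (MulAut.conj g).injective).symm)
  refine le_pc ((Subgroup.map_mono (pc_le Y)).trans hg.le) ((pc_pgroup Y).map _) ?_
  calc Y = Y.map ((MulAut.conj g : G ≃* G) : G →* G) := hg.symm
    _ ≤ (normalizer (Cfsg.pCoreTwoOf Y : Set G)).map ((MulAut.conj g : G ≃* G) : G →* G) :=
      Subgroup.map_mono (self_le_norm_pc Y)
    _ ≤ _ := Subgroup.le_normalizer_map _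

theorem norm_closure {K : Subgroup G} {S : Set G}
    (h : ∀ k ∈ K, ∀ x ∈ S, k * x * k⁻¹ ∈ closure S) : K ≤ normalizer (closure S : Set G) := by
  have key : ∀ k ∈ K, ∀ x ∈ closure S, k * x * k⁻¹ ∈ closure S := fun k hk x hx =>
    (closure_le ((closure S).comap ((MulAut.conj k : G ≃* G) : G →* G))).2 (h k hk) hx
  intro k hk
  rw [mem_normalizer_iff]
  intro x
  refine ⟨key k hk x, fun hx => ?_⟩
  have := key k⁻¹ (inv_mem hk) _ hx
  simpa [mul_assoc] using this

theorem mem_of_sup_eq_top [Fact (Nat.Prime 2)] {R L : Subgroup G} [R.Normal] (hR : IsPGroup 2 R)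
    (hL : L.IsSubnormal) : L ⊔ R = ⊤ → ∀ x : G, Odd (orderOf x) → x ∈ L := by
  induction hL with
  | top => intros; exact mem_top _
  | step H K hle _ hN ih =>
    intro htop x hx
    haveI := hN
    have hxK : x ∈ K := ih (top_le_iff.1 (htop ▸ sup_le_sup_right hle R)) x hx
    obtain ⟨a, ha, r, hr, hr'⟩ := mem_sup_of_normal_right.1 (htop.ge (mem_top x))
    have hrK : r ∈ K := by
      have : r = a⁻¹ * x := by rw [← hr', inv_mul_cancel_left]
      rw [this]; exact mul_mem (inv_mem (hle ha)) hxK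
    set q := QuotientGroup.mk' (H.subgroupOf K)
    have hq : q ⟨x, hxK⟩ = q ⟨r, hrK⟩ := by
      rw [show (⟨x, hxK⟩ : K) = ⟨a, hle ha⟩ * ⟨r, hrK⟩ from Subtype.ext hr'.symm, map_mul,
        (QuotientGroup.eq_one_iff (N := H.subgroupOf K) ⟨a, hle ha⟩).2 ha |>
          fun e => (show q ⟨a, hle ha⟩ = 1 from e), one_mul]
    obtain ⟨j, hj⟩ := hR ⟨r, hr⟩
    have h1 : orderOf (q ⟨x, hxK⟩) ∣ 2 ^ j := by
      rw [hq]
      refine orderOf_dvd_of_pow_eq_one ?_
      rw [← map_pow, show (⟨r, hrK⟩ : K) ^ 2 ^ j = 1 from Subtype.ext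
        (congrArg Subtype.val hj :), map_one]
    have h2 : orderOf (q ⟨x, hxK⟩) ∣ orderOf x := by
      have := orderOf_map_dvd q ⟨x, hxK⟩
      rwa [Subgroup.orderOf_mk] at this
    have h3 := Nat.eq_one_of_dvd_coprimes ((Nat.coprime_two_left.2 hx).pow_left j) h1 h2
    exact (QuotientGroup.eq_one_iff (N := H.subgroupOf K) _).1 (orderOf_eq_one_iff.1 h3)

theorem oddGenerated_perfect [Fact (Nat.Prime 2)] {K : Subgroup G} (hK : ⁅K, K⁆ = K) :
    Cfsg.oddGenerated K = K := by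
  refine le_antisymm ((closure_le _).2 fun x hx => hx.1) ?_
  refine perfect_le_of_pPrime_elements (p := 2) hK (norm_closure fun k hk x hx =>
    subset_closure ⟨mul_mem (mul_mem hk hx.1) (inv_mem hk), ?_⟩) fun x hx hc =>
    subset_closure ⟨hx, Nat.coprime_two_right.1 hc⟩
  rw [show k * x * k⁻¹ = (MulAut.conj k : G ≃* G) x from rfl, MulEquiv.orderOf_eq]
  exact hx.2

theorem pc_norm_perfect [Fact (Nat.Prime 2)] {L Y : Subgroup G} (hLY : L ≤ Y)
    (hs : (L.subgroupOf Y).IsSubnormal) (hL : ⁅L, L⁆ = L) :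
    Cfsg.pCoreTwoOf Y ≤ normalizer (L : Set G) := by
  set R := Cfsg.pCoreTwoOf Y
  set Z := L ⊔ R
  have hZY : Z ≤ Y := sup_le hLY (pc_le Y)
  haveI : (R.subgroupOf Z).Normal :=
    normal_subgroupOf_of_le_normalizer (hZY.trans (self_le_norm_pc Y))
  have hs' : (L.subgroupOf Z).IsSubnormal := by
    have := hs.comap (Subgroup.inclusion hZY)
    have e : (L.subgroupOf Y).comap (Subgroup.inclusion hZY) = L.subgroupOf Z := by
      ext x; simp [mem_subgroupOf]
    rwa [e] at this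
  have hR' : IsPGroup 2 (R.subgroupOf Z) :=
    (pc_pgroup Y).of_equiv (subgroupOfEquivOfLe le_sup_right).symm
  have key : ∀ x ∈ Z, Odd (orderOf x) → x ∈ L := fun x hx ho =>
    mem_subgroupOf.1 (mem_of_sup_eq_top (R := R.subgroupOf Z) (L := L.subgroupOf Z) hR' hs'
      (by rw [← subgroupOf_sup le_sup_left le_sup_right, subgroupOf_self]) ⟨x, hx⟩
      (by rwa [Subgroup.orderOf_mk]))
  rw [← oddGenerated_perfect hL]
  refine norm_closure fun r hr x hx => subset_closure ?_
  have ho : Odd (orderOf (r * x * r⁻¹)) := by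
    rw [show r * x * r⁻¹ = (MulAut.conj r : G ≃* G) x from rfl, MulEquiv.orderOf_eq]
    exact hx.2
  exact ⟨key _ (mul_mem (mul_mem (le_sup_right (a := L) hr) (le_sup_left (b := R) hx.1))
    (inv_mem (le_sup_right (a := L) hr))) ho, ho⟩

/-- the `A × B` lemma for a perfect group -/
theorem axb [Fact (Nat.Prime 2)] {L R : Subgroup G} (hL : ⁅L, L⁆ = L) (hR : IsPGroup 2 R)
    (hLR : L ≤ normalizer (R : Set G)) : ∀ W : Subgroup G, IsPGroup 2 W →
      R ≤ normalizer (W : Set G) → L ≤ normalizer (W : Set G) →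
      ⁅⁅R, L⁆, W⁆ = ⊥ → ⁅W ⊓ centralizer (R : Set G), L⁆ = ⊥ → ⁅W, L⁆ = ⊥ := by
  intro W
  induction W using WellFoundedLT.induction with
  | _ W ih =>
    intro hW hRW hLW hc hC
    by_cases hne : W = ⊥
    · rw [hne, commutator_bot_left]
    have hlt := commutator_pGroup_lt hW hR hRW hne
    have hLn : L ≤ normalizer ((⁅W, R⁆ : Subgroup G) : Set G) := fun x hx => by
      rw [mem_normalizer_iff_map_conj_eq, map_commutator,
        mem_normalizer_iff_map_conj_eq.mp (hLW hx), mem_normalizer_iff_map_conj_eq.mp (hLR hx)]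
    have a1 : ⁅⁅W, R⁆, L⁆ = ⊥ := ih _ hlt (hW.to_le hlt.le) (normalizer_commutator_ge_right W R) hLn
      (le_bot_iff.1 ((commutator_mono le_rfl hlt.le).trans hc.le))
      (le_bot_iff.1 ((commutator_mono (inf_le_inf_right _ hlt.le) le_rfl).trans hC.le))
    have a3 : ⁅⁅L, W⁆, R⁆ = ⊥ := commutator_commutator_eq_bot_of_rotate a1 hc
    have h4 : ⁅L, W⁆ ≤ W ⊓ centralizer (R : Set G) :=
      le_inf (by rw [commutator_comm]; exact le_normalizer_iff_commutator_le_left.mp hLW)
        (commutator_eq_bot_iff_le_centralizer.mp a3)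
    rw [commutator_comm]
    exact commutator_eq_bot_of_perfect hL (le_bot_iff.1 ((commutator_mono h4 le_rfl).trans hC.le))

/-- `Ω₁(Z(O₂(Y)))` -/
def omZ (Y : Subgroup G) : Subgroup G :=
  Cfsg.omegaOne 2 (Cfsg.pCoreTwoOf Y ⊓ centralizer (Cfsg.pCoreTwoOf Y : Set G))

theorem omZ_le (Y : Subgroup G) :
    omZ Y ≤ Cfsg.pCoreTwoOf Y ⊓ centralizer (Cfsg.pCoreTwoOf Y : Set G) :=
  (closure_le _).2 fun _ hx => hx.1

theorem omZ_sq (Y : Subgroup G) {x : G} (hx : x ∈ omZ Y) : x ^ 2 = 1 := by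
  induction hx using Subgroup.closure_induction with
  | mem x hx => exact hx.2
  | one => exact one_pow 2
  | mul x y hx hy ha hb =>
    have hc : Commute x y := (mem_centralizer_iff.1 (omZ_le Y hx).2 y (omZ_le Y hy).1).symm
    rw [hc.mul_pow, ha, hb, one_mul]
  | inv x _ ha => rw [inv_pow, ha, inv_one]

theorem norm_omZ [Fact (Nat.Prime 2)] (Y : Subgroup G) :
    normalizer (Y : Set G) ≤ normalizer (omZ Y : Set G) := by
  refine norm_closure fun g hg x hx => subset_closure ?_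
  have hP := mem_normalizer_iff.1 (norm_le_norm_pc Y hg)
  refine ⟨⟨(hP x).1 hx.1.1, mem_centralizer_iff.2 fun z hz => ?_⟩, ?_⟩
  · have hz' : g⁻¹ * z * g ∈ Cfsg.pCoreTwoOf Y := by
      rw [hP]; simpa [mul_assoc] using hz
    have := mem_centralizer_iff.1 hx.1.2 _ hz'
    calc z * (g * x * g⁻¹) = g * (g⁻¹ * z * g * x) * g⁻¹ := by group
      _ = g * (x * (g⁻¹ * z * g)) * g⁻¹ := by rw [this]
      _ = g * x * g⁻¹ * z := by group
  · rw [conj_pow, hx.2, mul_one, mul_inv_cancel]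

end Cfsg.Lib.Components.UpwardClosed
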